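import Cfsg.Agent.H491.RIM.Eng
import Cfsg.Agent.H46.RIM.Node
import Cfsg.Agent.H53.HC.Prod

/-!
# Cuspidal characters of `L_J`, `J` two orthogonal nodes, over a character of a central subgroup (S4816, helper521)

* `exists_psi` : `A₀ ≤ T` central in `L_J`, containing the centre of `M_i`; `κ` any linear character of `A₀`: there is a
  cuspidal `ψ ∈ Irr(L_J)` over `κ`.
-/

set_option autoImplicit false
set_option linter.unusedSectionVars false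

open scoped ComplexConjugate
open Cfsg

namespace Cfsg.Agent.H521.RIM.Two

open Cfsg.Agent.OddOrderCharacters.Clifford Cfsg.Agent.Characters Cfsg.Agent.H53.HC
open CoxeterSystem Cfsg.Agent.ChevalleyStructure.CoxeterGeom Cfsg.Agent.Tits.Roots Cfsg.Agent.Tits.Core
  Cfsg.Agent.Tits.Exchange Cfsg.Agent.Nodes.Reps Cfsg.Agent.Nodes.BNOf Cfsg.Agent.Nodes.StabComb
  Cfsg.Agent.Nodes.Bruhat Cfsg.Agent.Nodes.OppDec Cfsg.Agent.Nodes.LeviDec
open Cfsg.Agent.H491.RIM Cfsg.Agent.H46.RIM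

theorem mem_sup_comm {G : Type*} [Group G] {H K : Subgroup G} (hc : ∀ a ∈ H, ∀ b ∈ K, a * b = b * a) {x : G}
    (hx : x ∈ H ⊔ K) : ∃ a ∈ H, ∃ b ∈ K, x = a * b := by
  let S : Subgroup G :=
    { carrier := {x | ∃ a ∈ H, ∃ b ∈ K, x = a * b}
      one_mem' := ⟨1, one_mem _, 1, one_mem _, (mul_one 1).symm⟩
      mul_mem' := by
        rintro _ _ ⟨a, ha, b, hb, rfl⟩ ⟨c, hc', d, hd, rfl⟩
        refine ⟨a * c, mul_mem ha hc', b * d, mul_mem hb hd, ?_⟩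
        calc a * b * (c * d) = a * (b * c) * d := by group
          _ = a * (c * b) * d := by rw [hc c hc' b hb]
          _ = a * c * (b * d) := by group
      inv_mem' := by
        rintro _ ⟨a, ha, b, hb, rfl⟩
        refine ⟨a⁻¹, inv_mem ha, b⁻¹, inv_mem hb, ?_⟩
        rw [mul_inv_rev, hc _ (inv_mem ha) _ (inv_mem hb)] }
  have h1 : H ⊔ K ≤ S := sup_le (fun a ha => ⟨a, ha, 1, one_mem _, (mul_one a).symm⟩)
    (fun b hb => ⟨1, one_mem _, b, hb, (one_mul b).symm⟩)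
  exact h1 hx

variable {I W Y : Type*} [Fintype I] [DecidableEq I] [Group W] [Group Y] {M : CoxeterMatrix I}
  {cs : CoxeterSystem M W} {A : I → I → ℤ} {h : IsCartan M A} {p : ℕ} {T : Subgroup Y} {n : I → Y}
  {X : (I → ℤ) → Subgroup Y} (R : RGD cs h p T n X)

include R

/-- **Cuspidal characters of `L_J`** over a linear character of a central subgroup. -/
theorem exists_psi [Finite W] [Finite Y] {i j : I} (ho : Orth A ({i} : Set I) {j}) {A₀ : Subgroup Y} (hAT : A₀ ≤ T)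
    (hAc : ∀ z ∈ A₀, ∀ g ∈ LJ cs h T X ({i} ∪ {j}), z * g = g * z)
    (hAZ : ∀ z ∈ MJ cs h X {i}, (∀ y ∈ MJ cs h X ({i} : Set I), z * y = y * z) → z ∈ A₀) (κ : A₀ →* ℂˣ) :
    ∃ ψ : ↥(LJ cs h T X ({i} ∪ {j})) → ℂ, IsIrrCharacter _ ψ ∧
      (∀ z (hz : z ∈ A₀), ψ ⟨z, T_le_LJ (hAT hz)⟩ = ψ 1 * (κ ⟨z, hz⟩ : ℂˣ)) ∧
      ∀ k ∈ ({i} ∪ {j} : Set I), ∀ [Fintype (rad cs h X ({i} ∪ {j}) k)],
        ∑ u : rad cs h X ({i} ∪ {j}) k, ψ ⟨u, rad_le_LJ _ k u.2⟩ = 0 := by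
  classical
  have hcomm := ho.comm R
  have hMJ := ho.MJ_union (cs := cs) (h := h) (X := X)
  have hle1 : MJ cs h X {i} ≤ MJ cs h X ({i} ∪ {j}) := by rw [hMJ]; exact le_sup_left
  have hle2 : MJ cs h X {j} ≤ MJ cs h X ({i} ∪ {j}) := by rw [hMJ]; exact le_sup_right
  have hM := MJ_le_LJ (cs := cs) (h := h) (T := T) (X := X) ({i} ∪ {j})
  obtain ⟨θ₁, hθ₁, hc₁, hv₁⟩ := exists_cus_one R i (A₀ ⊓ MJ cs h X {i}) inf_le_right
    (fun z hz g hg => hAc z hz.1 g (hM (hle1 hg))) (κ.comp (Subgroup.inclusion inf_le_left))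
  obtain ⟨θ₂, hθ₂, hc₂, hv₂⟩ := exists_cus_one R j (A₀ ⊓ MJ cs h X {j}) inf_le_right
    (fun z hz g hg => hAc z hz.1 g (hM (hle2 hg))) (κ.comp (Subgroup.inclusion inf_le_left))
  have hc₁' : ∀ z (hz : z ∈ A₀) (hm : z ∈ MJ cs h X ({i} : Set I)), θ₁ ⟨z, hm⟩ = θ₁ 1 * (κ ⟨z, hz⟩ : ℂˣ) :=
    fun z hz hm => hc₁ z ⟨hz, hm⟩
  have hc₂' : ∀ z (hz : z ∈ A₀) (hm : z ∈ MJ cs h X ({j} : Set I)), θ₂ ⟨z, hm⟩ = θ₂ 1 * (κ ⟨z, hz⟩ : ℂˣ) :=
    fun z hz hm => hc₂ z ⟨hz, hm⟩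
  -- the product
  obtain ⟨θ, hθ, hval⟩ : ∃ θ : ↥(MJ cs h X ({i} ∪ {j})) → ℂ, IsIrrCharacter _ θ ∧
      ∀ (a : Y) (ha : a ∈ MJ cs h X ({i} : Set I)) (b : Y) (hb : b ∈ MJ cs h X ({j} : Set I))
        (hab : a * b ∈ MJ cs h X ({i} ∪ {j})), θ ⟨a * b, hab⟩ = θ₁ ⟨a, ha⟩ * θ₂ ⟨b, hb⟩ := by
    obtain ⟨θ, hθ, hval⟩ := exists_prod_cen hcomm hθ₁ hθ₂ (by
      intro z h1 h2
      have hz : z ∈ A₀ := hAZ z h1 fun y hy => (hcomm y hy z h2).symm
      rw [hc₁' z hz h1, hc₂' z⁻¹ (inv_mem hz) (inv_mem h2)]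
      have e : κ ⟨z⁻¹, inv_mem hz⟩ = (κ ⟨z, hz⟩)⁻¹ := by
        rw [← map_inv]
        rfl
      rw [e, Units.val_inv_eq_inv_val]
      have h6 : ((κ ⟨z, hz⟩ : ℂˣ) : ℂ) ≠ 0 := Units.ne_zero _
      field_simp)
    rw [hMJ]
    exact ⟨θ, hθ, fun a ha b hb _ => hval a ha b hb⟩
  have hone : θ 1 = θ₁ 1 * θ₂ 1 := by
    have h1 := hval 1 (one_mem _) 1 (one_mem _) (by rw [mul_one]; exact one_mem _)
    simp only [mul_one] at h1
    exact h1
  have hl : ∀ z (h1 : z ∈ MJ cs h X ({i} ∪ {j})) (h2 : z ∈ A₀), θ ⟨z, h1⟩ = θ 1 * (κ ⟨z, h2⟩ : ℂˣ) := by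
    intro z h1 h2
    obtain ⟨a, ha, b, hb, e⟩ := mem_sup_comm hcomm (by rw [← hMJ]; exact h1)
    subst e
    have haA : a ∈ A₀ := by
      refine hAZ a ha fun y hy => ?_
      have h3 := hAc _ h2 y (hM (hle1 hy))
      have h4 := hcomm y hy b hb
      have h5 : a * y * b = y * a * b := by
        calc a * y * b = a * (y * b) := by group
          _ = a * b * y := by rw [h4]; group
          _ = y * (a * b) := h3
          _ = y * a * b := by group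
      exact mul_right_cancel h5
    have hbA : b ∈ A₀ := by
      have h3 := mul_mem (inv_mem haA) h2
      rwa [inv_mul_cancel_left] at h3
    rw [hval a ha b hb h1, hc₁' a haA ha, hc₂' b hbA hb, hone]
    have e : κ ⟨a * b, h2⟩ = κ ⟨a, haA⟩ * κ ⟨b, hbA⟩ := by
      rw [← map_mul]
      rfl
    rw [e, Units.val_mul]
    ring
  have hvan : ∀ k ∈ ({i} ∪ {j} : Set I), ∀ [Fintype (rad cs h X ({i} ∪ {j}) k)],
      ∑ u : rad cs h X ({i} ∪ {j}) k, θ ⟨u, rad_le_MJ _ k u.2⟩ = 0 := by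
    intro k hk hf
    rcases hk with hk | hk
    · have hk' : k = i := hk
      subst hk'
      have hr := ho.rad_eq (cs := cs) (h := h) (X := X) (i := k) rfl
      have : Fintype (rad cs h X ({k} : Set I) k) := Fintype.ofFinite _
      have h1 := hv₁ k rfl
      have h2 : ∀ u : rad cs h X ({k} : Set I) k, θ ⟨u, rad_le_MJ _ k (by rw [hr]; exact u.2)⟩ =
          θ₁ ⟨u, rad_le_MJ _ k u.2⟩ * θ₂ 1 := by
        intro u
        have h3 := hval u (rad_le_MJ _ k u.2) 1 (one_mem _) (by rw [mul_one]; exact hle1 (rad_le_MJ _ k u.2))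
        simp only [mul_one] at h3
        exact h3
      have h4 : ∑ u : rad cs h X ({k} : Set I) k, θ ⟨u, rad_le_MJ _ k (by rw [hr]; exact u.2)⟩ = 0 := by
        rw [Finset.sum_congr rfl fun u _ => h2 u, ← Finset.sum_mul, h1, zero_mul]
      rw [← h4]
      exact Fintype.sum_equiv (MulEquiv.subgroupCongr hr).toEquiv _ _ fun u => rfl
    · have hk' : k = j := hk
      subst hk'
      have hr := ho.symm.rad_eq (cs := cs) (h := h) (X := X) (i := k) rfl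
      rw [Set.union_comm] at hr
      have : Fintype (rad cs h X ({k} : Set I) k) := Fintype.ofFinite _
      have h1 := hv₂ k rfl
      have h2 : ∀ u : rad cs h X ({k} : Set I) k, θ ⟨u, rad_le_MJ _ k (by rw [hr]; exact u.2)⟩ =
          θ₁ 1 * θ₂ ⟨u, rad_le_MJ _ k u.2⟩ := by
        intro u
        have h3 := hval 1 (one_mem _) u (rad_le_MJ _ k u.2) (by rw [one_mul]; exact hle2 (rad_le_MJ _ k u.2))
        simp only [one_mul] at h3
        exact h3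
      have h4 : ∑ u : rad cs h X ({k} : Set I) k, θ ⟨u, rad_le_MJ _ k (by rw [hr]; exact u.2)⟩ = 0 := by
        rw [Finset.sum_congr rfl fun u _ => h2 u, ← Finset.mul_sum, h1, mul_zero]
      rw [← h4]
      exact Fintype.sum_equiv (MulEquiv.subgroupCongr hr).toEquiv _ _ fun u => rfl
  -- `L_J`
  obtain ⟨ψ, hψ, -, hψz, c, s, hres, hsφ⟩ := exists_over_cen (MJ_le_LJ (T := T) ({i} ∪ {j}))
    (LJ_le_normalizer_MJ R ({i} ∪ {j})) (hAT.trans T_le_LJ) hAc hθ κ hl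
  refine ⟨ψ, hψ, ?_, ?_⟩
  · intro z hz
    have h1 := hψz z hz 1 (one_mem _)
    rw [mul_comm (ψ 1)]
    refine Eq.trans ?_ h1
    congr 1
    exact Subtype.ext (mul_one z).symm
  · have hsT : ∀ φ ∈ s, ∃ t, ∃ ht : t ∈ T,
        φ = θ ∘ conjME (MJ cs h X ({i} ∪ {j})) (T_le_normalizer_MJ R ({i} ∪ {j}) ht) := by
      intro φ hφ
      obtain ⟨g, hg, hgφ⟩ := hsφ φ hφ
      obtain ⟨m, hm, t, ht, rfl⟩ := (mem_LJ_iff_mul' R ({i} ∪ {j})).1 hg
      refine ⟨t, ht, ?_⟩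
      funext x
      obtain ⟨hx', e⟩ := hgφ x x.2
      rw [e, Function.comp_apply]
      have h1 := Core.isIrr_isClassFunction hθ
        (conjME (MJ cs h X ({i} ∪ {j})) (T_le_normalizer_MJ R ({i} ∪ {j}) ht) x) ⟨m, hm⟩
      rw [← h1]
      congr 1
      apply Subtype.ext
      simp only [conjME_coe, Subgroup.coe_mul, InvMemClass.coe_inv]
      group
    intro k hk hf
    have h1 : ∀ u : rad cs h X ({i} ∪ {j}) k, ψ ⟨u, rad_le_LJ _ k u.2⟩ = c * ∑ φ ∈ s, φ ⟨u, rad_le_MJ _ k u.2⟩ :=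
      fun u => hres ⟨u, rad_le_MJ _ k u.2⟩
    rw [Finset.sum_congr rfl fun u _ => h1 u, ← Finset.mul_sum, Finset.sum_comm]
    rw [Finset.sum_eq_zero, mul_zero]
    intro φ hφ
    obtain ⟨t, ht, rfl⟩ := hsT φ hφ
    rw [← hvan k hk]
    exact Fintype.sum_equiv (conjME (rad cs h X ({i} ∪ {j}) k) (T_le_normalizer_rad R ({i} ∪ {j}) k ht)).toEquiv _ _
      fun u => rfl

end Cfsg.Agent.H521.RIM.Two
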